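import Mathlib.GroupTheory.Index
import Mathlib.GroupTheory.Coset.Card
import Mathlib.Algebra.Group.Subgroup.Pointwise
import Mathlib.GroupTheory.GroupAction.ConjAct
import Mathlib.Tactic

/-!
# The expectation criterion

`A` a subgroup of a finite group `T` such that all `A ∩ xAx⁻¹`, `x ∉ A`, have order at least `μ`.
Then `(μ - 1) |T| ≤ ∑_{x ∈ A - 1} |C_T(x)| |x^T ∩ A|`.
-/

set_option autoImplicit false
set_option linter.style.haveILetI false

namespace Cfsg.Agent.H598.EP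

open scoped Pointwise

variable {T : Type*} [Group T]

/-- The number of conjugates of `x` (counted by elements `g` of the group) which lie in `A`. -/
theorem card_conj_mem (A : Subgroup T) (x : T) :
    Nat.card {g : T // g⁻¹ * x * g ∈ A} =
      Nat.card (Subgroup.centralizer {x} : Subgroup T) * Nat.card {y : T // y ∈ A ∧ IsConj x y} := by
  classical
  rw [← Nat.card_prod]
  -- choose conjugators
  have hch : ∀ y : {y : T // y ∈ A ∧ IsConj x y}, ∃ c : T, c⁻¹ * x * c = y.1 := by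
    intro y
    obtain ⟨c, hc⟩ := isConj_iff.1 y.2.2
    exact ⟨c⁻¹, by rw [inv_inv]; exact hc⟩
  choose c hc using hch
  refine Nat.card_congr
    { toFun := fun g => (⟨g.1 * (c ⟨g.1⁻¹ * x * g.1, g.2, ?_⟩)⁻¹, ?_⟩, ⟨g.1⁻¹ * x * g.1, g.2, ?_⟩)
      invFun := fun p => ⟨p.1.1 * c p.2, ?_⟩
      left_inv := ?_
      right_inv := ?_ }
  · exact isConj_iff.2 ⟨g.1⁻¹, by rw [inv_inv]⟩
  · rw [Subgroup.mem_centralizer_singleton_iff]
    have h := hc ⟨g.1⁻¹ * x * g.1, g.2, isConj_iff.2 ⟨g.1⁻¹, by rw [inv_inv]⟩⟩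
    generalize c ⟨g.1⁻¹ * x * g.1, g.2, isConj_iff.2 ⟨g.1⁻¹, by rw [inv_inv]⟩⟩ = k at h ⊢
    have h2 : x = k * (g.1⁻¹ * x * g.1) * k⁻¹ := by
      have h' : k⁻¹ * x * k = g.1⁻¹ * x * g.1 := h
      rw [← h']; group
    have h3 : g.1 * k⁻¹ * x = g.1 * k⁻¹ * (k * (g.1⁻¹ * x * g.1) * k⁻¹) := by rw [← h2]
    rw [h3]; group
  · exact isConj_iff.2 ⟨g.1⁻¹, by rw [inv_inv]⟩
  · have h1 := p.1.2
    rw [Subgroup.mem_centralizer_singleton_iff] at h1
    have h2 : (p.1.1 * c p.2)⁻¹ * x * (p.1.1 * c p.2) = p.2.1 := by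
      have h3 : x * p.1.1 = p.1.1 * x := h1.symm
      calc (p.1.1 * c p.2)⁻¹ * x * (p.1.1 * c p.2) = (c p.2)⁻¹ * (p.1.1⁻¹ * (x * p.1.1)) * c p.2 := by group
        _ = (c p.2)⁻¹ * x * c p.2 := by rw [h3]; group
        _ = p.2.1 := hc p.2
    rw [h2]
    exact p.2.2.1
  · rintro ⟨g, hg⟩
    apply Subtype.ext
    simp
  · rintro ⟨⟨k, hk⟩, ⟨y, hy, hxy⟩⟩
    rw [Subgroup.mem_centralizer_singleton_iff] at hk
    have h2 : (k * c ⟨y, hy, hxy⟩)⁻¹ * x * (k * c ⟨y, hy, hxy⟩) = y := by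
      have h3 : x * k = k * x := hk.symm
      calc (k * c ⟨y, hy, hxy⟩)⁻¹ * x * (k * c ⟨y, hy, hxy⟩)
          = (c ⟨y, hy, hxy⟩)⁻¹ * (k⁻¹ * (x * k)) * c ⟨y, hy, hxy⟩ := by group
        _ = (c ⟨y, hy, hxy⟩)⁻¹ * x * c ⟨y, hy, hxy⟩ := by rw [h3]; group
        _ = y := hc ⟨y, hy, hxy⟩
    ext
    · simp only [h2]
      group
    · simp only [h2]

/-- `|C_T(x)| |x^T ∩ A|`, the contribution of `x`. -/
noncomputable def wt (A : Subgroup T) (x : T) : ℕ :=
  Nat.card (Subgroup.centralizer {x} : Subgroup T) * Nat.card {y : T // y ∈ A ∧ IsConj x y}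

theorem wt_one (A : Subgroup T) : wt A 1 = Nat.card T := by
  have h4 : (Subgroup.centralizer {1} : Subgroup T) = ⊤ := by
    rw [eq_top_iff]
    intro g _
    rw [Subgroup.mem_centralizer_singleton_iff, mul_one, one_mul]
  have h5 : Nat.card {y : T // y ∈ A ∧ IsConj 1 y} = 1 := by
    rw [Nat.card_eq_one_iff_unique]
    refine ⟨⟨fun a b => ?_⟩, ⟨⟨1, A.one_mem, IsConj.refl 1⟩⟩⟩
    have ha : (a : T) = 1 := by
      obtain ⟨c, hc⟩ := isConj_iff.1 a.2.2
      rw [← hc]; group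
    have hb : (b : T) = 1 := by
      obtain ⟨c, hc⟩ := isConj_iff.1 b.2.2
      rw [← hc]; group
    exact Subtype.ext (ha.trans hb.symm)
  rw [wt, h4, h5, mul_one, Nat.card_congr Subgroup.topEquiv.toEquiv]

/-- **The expectation criterion.** If `μ ≤ |A|` and `μ ≤ |A ∩ gAg⁻¹|` for all `g ∉ A`, then
`μ |T| ≤ ∑_{x ∈ A} |C_T(x)| |x^T ∩ A|`. -/
theorem expect [Fintype T] (A : Subgroup T) [Fintype A] (μ : ℕ) (hμ : μ ≤ Nat.card A)
    (h : ∀ g : T, g ∉ A → μ ≤ Nat.card {x : T // x ∈ A ∧ g⁻¹ * x * g ∈ A}) :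
    μ * Nat.card T ≤ ∑ x : A, wt A x := by
  classical
  have h0 : ∀ g : T, μ ≤ Nat.card {x : T // x ∈ A ∧ g⁻¹ * x * g ∈ A} := by
    intro g
    by_cases hg : g ∈ A
    · refine hμ.trans (le_of_eq ?_)
      refine Nat.card_congr (Equiv.subtypeEquivRight ?_)
      intro x
      exact ⟨fun hx => ⟨hx, A.mul_mem (A.mul_mem (A.inv_mem hg) hx) hg⟩, fun hx => hx.1⟩
    · exact h g hg
  have e : (Σ g : T, {x : T // x ∈ A ∧ g⁻¹ * x * g ∈ A}) ≃
      (Σ x : A, {g : T // g⁻¹ * (x : T) * g ∈ A}) :=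
    { toFun := fun p => ⟨⟨p.2.1, p.2.2.1⟩, ⟨p.1, p.2.2.2⟩⟩
      invFun := fun q => ⟨q.2.1, ⟨q.1.1, q.1.2, q.2.2⟩⟩
      left_inv := fun _ => rfl
      right_inv := fun _ => rfl }
  calc μ * Nat.card T = ∑ _g : T, μ := by
        rw [Finset.sum_const, smul_eq_mul, Nat.card_eq_fintype_card, Finset.card_univ, mul_comm]
    _ ≤ ∑ g : T, Nat.card {x : T // x ∈ A ∧ g⁻¹ * x * g ∈ A} := Finset.sum_le_sum (fun g _ => h0 g)
    _ = Nat.card (Σ g : T, {x : T // x ∈ A ∧ g⁻¹ * x * g ∈ A}) := by rw [Nat.card_sigma]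
    _ = Nat.card (Σ x : A, {g : T // g⁻¹ * (x : T) * g ∈ A}) := Nat.card_congr e
    _ = ∑ x : A, Nat.card {g : T // g⁻¹ * (x : T) * g ∈ A} := by rw [Nat.card_sigma]
    _ = ∑ x : A, wt A x := Finset.sum_congr rfl (fun x _ => card_conj_mem A x)

theorem wt_le (A : Subgroup T) [Finite A] (x : T) (b c : ℕ)
    (hc : Nat.card (Subgroup.centralizer {x} : Subgroup T) ≤ c) (P : T → Prop)
    (hP : ∀ y, IsConj x y → P y) (hb : Nat.card {y : T // y ∈ A ∧ P y} ≤ b) : wt A x ≤ c * b := by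
  refine Nat.mul_le_mul hc (le_trans ?_ hb)
  haveI : Finite {y : T // y ∈ A ∧ P y} :=
    Finite.of_injective (fun y : {y : T // y ∈ A ∧ P y} => (⟨y.1, y.2.1⟩ : A))
      (fun a b hab => Subtype.ext (congrArg (fun z : A => (z : T)) hab))
  exact Nat.card_le_card_of_injective
    (fun y : {y : T // y ∈ A ∧ IsConj x y} => (⟨y.1, y.2.1, hP y.1 y.2.2⟩ : {y : T // y ∈ A ∧ P y}))
    (fun a b hab => Subtype.ext (congrArg (fun z : {y : T // y ∈ A ∧ P y} => (z : T)) hab))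

variable [Finite T]

/-- **Two-level form.** `P` a class property of non-trivial elements, `b` of them in `A`, with
centralizers of order at most `c₁`; all other non-trivial elements of `A` have centralizers of order
at most `c₂`. Then `(μ - 1) |T| ≤ c₁ b² + c₂ |A|²`. -/
theorem expect_two (A : Subgroup T) (μ b c₁ c₂ : ℕ) (hμ : μ ≤ Nat.card A)
    (h : ∀ g : T, g ∉ A → μ ≤ Nat.card {x : T // x ∈ A ∧ g⁻¹ * x * g ∈ A})
    (P : T → Prop) (hP : ∀ x y, P x → IsConj x y → P y)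
    (hb : Nat.card {y : T // y ∈ A ∧ P y} ≤ b)
    (h₁ : ∀ x ∈ A, P x → Nat.card (Subgroup.centralizer {x} : Subgroup T) ≤ c₁)
    (h₂ : ∀ x ∈ A, x ≠ 1 → ¬ P x → Nat.card (Subgroup.centralizer {x} : Subgroup T) ≤ c₂) :
    μ * Nat.card T ≤ Nat.card T + c₁ * b * b + c₂ * Nat.card A * Nat.card A := by
  classical
  have hfT := Fintype.ofFinite T
  have hfA := Fintype.ofFinite A
  refine (expect A μ hμ h).trans ?_
  have h6 : ∀ x : A, wt A x ≤ (if (x : T) = 1 then Nat.card T else 0) +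
      (if P x then c₁ * b else 0) + c₂ * Nat.card A := by
    intro x
    by_cases hx1 : (x : T) = 1
    · rw [if_pos hx1, hx1, wt_one]; omega
    · by_cases hxP : P x
      · rw [if_pos hxP]
        have := wt_le A x b c₁ (h₁ x x.2 hxP) P (fun y hy => hP x y hxP hy) hb
        omega
      · have := wt_le A x (Nat.card A) c₂ (h₂ x x.2 hx1 hxP) (fun _ => True) (fun _ _ => trivial)
          (le_of_eq (Nat.card_congr (Equiv.subtypeEquivRight (by intro y; simp))))
        omega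
  calc ∑ x : A, wt A x ≤ ∑ x : A, ((if (x : T) = 1 then Nat.card T else 0) +
      (if P x then c₁ * b else 0) + c₂ * Nat.card A) := Finset.sum_le_sum (fun x _ => h6 x)
    _ = (∑ x : A, (if (x : T) = 1 then Nat.card T else 0)) + (∑ x : A, (if P x then c₁ * b else 0)) +
        Nat.card A * (c₂ * Nat.card A) := by
        rw [Finset.sum_add_distrib, Finset.sum_add_distrib, Finset.sum_const, smul_eq_mul,
          Finset.card_univ]
        simp only [Nat.card_eq_fintype_card]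
    _ ≤ Nat.card T + b * (c₁ * b) + Nat.card A * (c₂ * Nat.card A) := by
        have h7 : (∑ x : A, (if (x : T) = 1 then Nat.card T else 0)) = Nat.card T := by
          rw [Finset.sum_eq_single (1 : A)]
          · simp
          · intro y _ hy
            rw [if_neg]
            intro h; exact hy (Subtype.ext h)
          · simp
        have h8 : (∑ x : A, (if P x then c₁ * b else 0)) ≤ b * (c₁ * b) := by
          rw [← Finset.sum_filter, Finset.sum_const, smul_eq_mul]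
          refine Nat.mul_le_mul_right _ (le_trans (le_of_eq ?_) hb)
          rw [← Fintype.card_subtype, ← Nat.card_eq_fintype_card]
          exact Nat.card_congr (Equiv.subtypeSubtypeEquivSubtypeInter (fun x => x ∈ A) P)
        omega
    _ = _ := by ring

/-- If all centralizers of non-trivial elements of `A` have order at most `c`, then
`(μ - 1) |T| ≤ c |A|²`. -/
theorem expect_le (A : Subgroup T) (μ c : ℕ) (hμ : μ ≤ Nat.card A)
    (h : ∀ g : T, g ∉ A → μ ≤ Nat.card {x : T // x ∈ A ∧ g⁻¹ * x * g ∈ A})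
    (hc : ∀ x ∈ A, x ≠ 1 → Nat.card (Subgroup.centralizer {x} : Subgroup T) ≤ c) :
    μ * Nat.card T ≤ Nat.card T + c * Nat.card A * Nat.card A := by
  have := expect_two A μ 0 0 c hμ h (fun _ => False) (fun _ _ h => h.elim)
    (by
      haveI : IsEmpty {y : T // y ∈ A ∧ False} := ⟨fun y => y.2.2⟩
      rw [Nat.card_of_isEmpty])
    (fun _ _ h => h.elim) (fun x hx hx1 _ => hc x hx hx1)
  simpa using this

end Cfsg.Agent.H598.EP
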